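import Cfsg.Agent.CTT.K2
import Cfsg.Agent.S0093

/-! Klinger–Mason, part 3: the almost extraspecial normal subgroup of the centralizer of a good
involution. -/

set_option autoImplicit false

namespace Cfsg.Agent.CTT.KMc
open Subgroup Cfsg H59 S1874

variable {G : Type*} [Group G]

open Classical in
/-- The commutator form. -/
noncomputable def fz (x y : G) : ZMod 2 := if x * y = y * x then 0 else 1

theorem fz_eq_zero {x y : G} : fz x y = 0 ↔ x * y = y * x := by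
  unfold fz; split_ifs with h <;> simp [h]

theorem fz_eq_one {x y : G} (h : x * y ≠ y * x) : fz x y = 1 := if_neg h

theorem fz_symm (x y : G) : fz x y = fz y x := by
  classical
  unfold fz; exact if_congr eq_comm rfl rfl

theorem fz_self (x : G) : fz x x = 0 := fz_eq_zero.mpr rfl

theorem fz_conj (g x y : G) : fz (g * x * g⁻¹) (g * y * g⁻¹) = fz x y := by
  classical
  unfold fz
  refine if_congr ?_ rfl rfl
  rw [conj_mul, conj_mul, mul_left_inj, mul_right_inj]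

/-- `D` has commutators in `{1, z}`. -/
structure Cm (z : G) (D : Subgroup G) : Prop where
  sq : z * z = 1
  ne : z ≠ 1
  le : D ≤ C1 z
  comm : ∀ x ∈ D, ∀ y ∈ D, x * y = y * x ∨ x * y = z * (y * x)

variable {z : G} {B D : Subgroup G}

theorem Cm.of_ne (c : Cm z D) {x y : G} (hx : x ∈ D) (hy : y ∈ D) (h : x * y ≠ y * x) :
    x * y = z * (y * x) := (c.comm x hx y hy).resolve_left h

theorem Cm.fm (c : Cm z D) {x y w : G} (hx : x ∈ D) (hy : y ∈ D) (hw : w ∈ D) :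
    fz (x * y) w = fz x w + fz y w := by
  have hxz := mem_C1.mp (c.le hx)
  have ne : ∀ a : G, z * a ≠ a := fun a h => c.ne (mul_eq_right.mp h)
  by_cases h1 : x * w = w * x <;> by_cases h2 : y * w = w * y
  · rw [fz_eq_zero.mpr h1, fz_eq_zero.mpr h2, add_zero, fz_eq_zero, mul_assoc, h2, ← mul_assoc,
      h1, mul_assoc]
  · rw [fz_eq_zero.mpr h1, fz_eq_one h2, zero_add, fz_eq_one]
    rw [mul_assoc, c.of_ne hy hw h2, ← mul_assoc, hxz, mul_assoc, ← mul_assoc x, h1, mul_assoc]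
    exact ne _
  · rw [fz_eq_zero.mpr h2, fz_eq_one h1, add_zero, fz_eq_one]
    rw [mul_assoc, h2, ← mul_assoc, c.of_ne hx hw h1, mul_assoc, mul_assoc]
    exact ne _
  · rw [fz_eq_one h2, fz_eq_one h1, CharTwo.add_self_eq_zero, fz_eq_zero, mul_assoc,
      c.of_ne hy hw h2, ← mul_assoc, hxz, mul_assoc, ← mul_assoc x, c.of_ne hx hw h1,
      ← mul_assoc, ← mul_assoc, c.sq, one_mul, mul_assoc]

theorem Cm.fm' (c : Cm z D) {x y w : G} (hx : x ∈ D) (hy : y ∈ D) (hw : w ∈ D) :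
    fz w (x * y) = fz w x + fz w y := by rw [fz_symm, c.fm hx hy hw, fz_symm x, fz_symm y]

theorem Cm.finv (c : Cm z D) {x w : G} (hx : x ∈ D) (hw : w ∈ D) : fz x⁻¹ w = fz x w := by
  have h := c.fm (inv_mem hx) hx hw
  rw [inv_mul_cancel, fz_eq_zero.mpr (by simp)] at h
  revert h
  generalize fz x⁻¹ w = a, fz x w = b
  revert a b
  decide

theorem Cm.fzz (c : Cm z D) {w : G} (hw : w ∈ D) : fz z w = 0 :=
  fz_eq_zero.mpr (mem_C1.mp (c.le hw)).symm

theorem Cm.mul_sq (c : Cm z D) {x y : G} (hx : x ∈ D) (hy : y ∈ D) :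
    (x * y) ^ 2 = x ^ 2 * y ^ 2 ∨ (x * y) ^ 2 = z * (x ^ 2 * y ^ 2) := by
  have e : (x * y) ^ 2 = x * (y * x) * y := by rw [pow_two]; group
  rcases c.comm y hy x hx with h | h <;> rw [e, h]
  · left; rw [pow_two, pow_two]; group
  · right; rw [← mul_assoc x, mem_C1.mp (c.le hx), pow_two, pow_two]; group

theorem Cm.conj_comm (c : Cm z D) {x y b : G} (hx : x ∈ D) (hy : y ∈ D) (hb : b * x * b⁻¹ ∈ D)
    (h : b * y = y * b) : x⁻¹ * (b * x * b⁻¹) * y = y * (x⁻¹ * (b * x * b⁻¹)) := by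
  have h1 := fz_conj b x y
  rw [h, mul_inv_cancel_right] at h1
  rw [← fz_eq_zero, c.fm (inv_mem hx) hb hy, h1, c.finv hx hy, CharTwo.add_self_eq_zero]

/-- The almost extraspecial normal subgroup. -/
structure Crit (z : G) (B D : Subgroup G) : Prop extends Cm z D where
  two : IsPGroup 2 D
  norm : C1 z ≤ normalizer (D : Set G)
  mem : z ∈ D
  sq2 : ∀ x ∈ D, x ^ 2 = 1 ∨ x ^ 2 = z
  faith : ∀ e ∈ B, D ≤ C1 e → e = 1

variable [Finite G] {p N : ℕ} [hp : Fact p.Prime]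

omit [Finite G] in
theorem Hyp.chain (h : Hyp p N G) {X : Subgroup G} (hX : IsPGroup 2 X) {b x : G} (hb : b ^ p = 1)
    (hx : x⁻¹ * (b * x * b⁻¹) ∈ X) (hc : x⁻¹ * (b * x * b⁻¹) ∈ C1 b) : b * x = x * b := by
  obtain ⟨k, hk⟩ := hX ⟨_, hx⟩
  exact KM69.chain ((Nat.coprime_primes hp.out Nat.prime_two).mpr h.p2) hb (mem_C1.mp hc)
    (congrArg Subtype.val hk)

theorem Good.exists_crit (h : Hyp p N G) (g : Good p N z B) : ∃ D, Crit z B D := by
  have hZ : IsPGroup 2 (zpowers z) := H44.isPGroup_zpowers_of_orderOf g.ord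
  have hch := h.loc2 _ hZ (mt zpowers_eq_bot.mp g.ne_one)
  have hCN : C1 z ≤ normalizer ((zpowers z : Subgroup G) : Set G) := by
    rw [C1, ← H44.centralizer_zpowers_eq]; exact centralizer_le_normalizer _
  have hNC : normalizer ((zpowers z : Subgroup G) : Set G) ≤ C1 z := fun x hx => by
    rcases g.mem_zpowers (H21.conj_mem_of_mem_normalizer hx (Subgroup.mem_zpowers z)) with e | e
    · exact absurd (conj_eq_one_iff.mp e) g.ne_one
    · exact mem_C1.mpr (mul_inv_eq_iff_eq_mul.mp e)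
  have hS := H69.isPGroup_pCoreOf (p := 2) (normalizer ((zpowers z : Subgroup G) : Set G))
  have hSn := hCN.trans (H69.le_normalizer_pCoreOf (p := 2) _)
  have hSC := (H69.pCoreOf_le (p := 2) _).trans hNC
  unfold H69.CharPOf at hch
  set S := pCoreOf 2 (normalizer ((zpowers z : Subgroup G) : Set G))
  have hzS : z ∈ S := hch ⟨hCN (self_mem_C1 z), le_C1.mp hSC⟩
  obtain ⟨H, hH, h1, h2, h3⟩ := S0093.result hS
  obtain ⟨h4, h5⟩ := (H3.map_frattini_le_iff (hS.to_subgroup H)).mp h1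
  set E := H.map S.subtype
  have hES : E ≤ S := map_subtype_le H
  have hE : IsPGroup 2 E := hS.to_le hES
  have hEn : C1 z ≤ normalizer (E : Set G) :=
    hSn.trans (H79.normalizer_le_normalizer_map_subtype H)
  have up : ∀ s : S, s ∈ centralizer (H : Set S) ↔ (s : G) ∈ centralizer (E : Set G) := fun s =>
    ⟨fun hs _ ⟨y, hy, e⟩ => e ▸ congrArg Subtype.val (hs y hy),
      fun hs y hy => Subtype.ext (hs y ⟨y, hy, rfl⟩)⟩
  have hcS : ∀ s ∈ S, s ∈ centralizer (E : Set G) → s ∈ E :=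
    fun s hs hc => ⟨⟨s, hs⟩, h3 ((up _).mpr hc), rfl⟩
  have hzE : z ∈ E := hcS z hzS (le_C1.mp (hES.trans hSC))
  have hsq : ∀ x ∈ E, x ^ 2 ∈ centralizer (E : Set G) := by
    rintro _ ⟨x, hx, rfl⟩
    exact (up _).mp (h5 x hx)
  have hZn : B ≤ normalizer (H69.zOf E : Set G) :=
    (g.le.trans hEn).trans (H69.normalizer_le_normalizer_zOf E)
  have hZB := g.abel h (X := H69.zOf E) hE.to_inf_left (inf_le_left.trans (hES.trans hSC)) hZn
  have hz2 : z * z = 1 := by rw [← pow_two, g.sq]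
  have cE : Cm z E := ⟨hz2, g.ne_one, hES.trans hSC, fun x hx y hy => by
    have k1 : x * y * x⁻¹ * y⁻¹ ∈ centralizer (E : Set G) := by
      obtain ⟨x, hx, rfl⟩ := hx
      obtain ⟨y, hy, rfl⟩ := hy
      exact (up _).mp (h4 (commutator_mem_commutator hx hy))
    have k2 : (x * y * x⁻¹ * y⁻¹) ^ 2 = 1 := by
      calc _ = x * y * x⁻¹ * y⁻¹ * (x * y * x⁻¹ * y⁻¹) := pow_two _
        _ = x * (x * y * x⁻¹ * y⁻¹) * (y * x⁻¹ * y⁻¹) := by rw [k1 x hx]; group
        _ = x ^ 2 * y * (x ^ 2)⁻¹ * y⁻¹ := by rw [pow_two]; group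
        _ = 1 := by rw [← hsq x hx y hy]; group
    rcases g.elem h (H21.isElementaryAbelian_omegaOne 2 (H69.zOf E))
      ((H21.omegaOne_le 2 _).trans (inf_le_left.trans (hES.trans hSC)))
      (hZn.trans (H21.normalizer_le_normalizer_omegaOne 2 _)) _ (H21.mem_omegaOne
        (mem_inf.mpr ⟨mul_mem (mul_mem (mul_mem hx hy) (inv_mem hx)) (inv_mem hy), k1⟩) k2) with e | e
    · left; rw [← mul_inv_eq_one, ← e]; group
    · right; rw [← e]; group⟩
  have hm : ∀ x ∈ E, ∀ y ∈ E, x ^ 2 * y ^ 2 ∈ zpowers z → (x * y) ^ 2 ∈ zpowers z :=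
    fun x hx y hy k => by
      rcases cE.mul_sq hx hy with e | e <;> rw [e]
      exacts [k, mul_mem (Subgroup.mem_zpowers z) k]
  let D : Subgroup G :=
    { carrier := {x | x ∈ E ∧ x ^ 2 ∈ zpowers z}
      one_mem' := ⟨one_mem _, by simp⟩
      mul_mem' := fun ⟨a1, a2⟩ ⟨b1, b2⟩ => ⟨mul_mem a1 b1, hm _ a1 _ b1 (mul_mem a2 b2)⟩
      inv_mem' := fun ⟨a1, a2⟩ => ⟨inv_mem a1, by rw [inv_pow]; exact inv_mem a2⟩ }
  have hDE : D ≤ E := fun _ hx => hx.1
  refine ⟨D, ⟨hz2, g.ne_one, hDE.trans cE.le, fun x hx y hy => cE.comm x hx.1 y hy.1⟩,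
    hE.to_le hDE, fun c hc => mem_normalizer_fintype fun x hx =>
      ⟨H21.conj_mem_of_mem_normalizer (hEn hc) hx.1, ?_⟩, ⟨hzE, by rw [g.sq]; exact one_mem _⟩,
    fun x hx => g.mem_zpowers hx.2, fun e he hc => ?_⟩
  · rw [conj_pow]
    exact H21.conj_mem_of_mem_normalizer (hCN hc) hx.2
  have hep := g.ea.2 e he
  have k1 : E ≤ C1 e := fun d hd => by
    have k2 := H21.conj_mem_of_mem_normalizer (hEn (g.le he)) hd
    have k3 : d⁻¹ * (e * d * e⁻¹) ∈ D := ⟨mul_mem (inv_mem hd) k2, hm _ (inv_mem hd) _ k2 (by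
      rw [conj_pow, hZB ⟨pow_mem hd 2, hsq d hd⟩ e he, mul_inv_cancel_right, inv_pow,
        inv_mul_cancel]
      exact one_mem _)⟩
    exact mem_C1.mpr (h.chain hE hep k3.1 (hc k3)).symm
  have k2 : S ≤ C1 e := fun s hs => by
    have k3 : s⁻¹ * (e * s * e⁻¹) ∈ S :=
      mul_mem (inv_mem hs) (H21.conj_mem_of_mem_normalizer (hSn (g.le he)) hs)
    refine mem_C1.mpr (h.chain hS hep k3 (k1 (hcS _ k3 fun d hd => ?_))).symm
    have k4 := mem_C1.mp (k1 (H21.conj_mem_of_mem_normalizer (hEn (hSC hs)) hd))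
    have k5 := mem_C1.mp (k1 hd)
    calc d * (s⁻¹ * (e * s * e⁻¹)) = s⁻¹ * (s * d * s⁻¹ * e) * s * e⁻¹ := by group
      _ = s⁻¹ * e * s * (d * e⁻¹) := by rw [k4]; group
      _ = s⁻¹ * (e * s * e⁻¹) * (e * d * e⁻¹) := by group
      _ = _ := by rw [← k5, mul_inv_cancel_right]
  obtain ⟨k, hk⟩ := hS ⟨e, hch ⟨hCN (g.le he), le_C1.mp k2⟩⟩
  exact orderOf_eq_one_iff.mp (Nat.eq_one_of_dvd_coprimes
    (((Nat.coprime_primes hp.out Nat.prime_two).mpr h.p2).pow_right k)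
    (orderOf_dvd_of_pow_eq_one hep) (orderOf_dvd_of_pow_eq_one (congrArg Subtype.val hk)))

theorem Crit.cen (c : Crit z B D) (h : Hyp p N G) (g : Good p N z B) {y : G} (hy : y ∈ D)
    (hc : y ∈ centralizer (D : Set G)) (h2 : y ^ 2 = 1) : y = 1 ∨ y = z :=
  g.elem h (H21.isElementaryAbelian_omegaOne 2 (H69.zOf D))
    ((H21.omegaOne_le 2 _).trans (inf_le_left.trans c.le))
    (((g.le.trans c.norm).trans (H69.normalizer_le_normalizer_zOf D)).trans
      (H21.normalizer_le_normalizer_omegaOne 2 _)) _ (H21.mem_omegaOne ⟨hy, hc⟩ h2)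

theorem Crit.faith' (c : Crit z B D) (h : Hyp p N G) (g : Good p N z B) {e : G} (he : e ∈ B)
    (hc : ∀ d ∈ D, d⁻¹ * (e * d * e⁻¹) ∈ centralizer (D : Set G)) : e = 1 := by
  have hZB := g.abel h (X := H69.zOf D) c.two.to_inf_left (inf_le_left.trans c.le)
    ((g.le.trans c.norm).trans (H69.normalizer_le_normalizer_zOf D))
  refine c.faith e he fun d hd => ?_
  have k := mul_mem (inv_mem hd) (H21.conj_mem_of_mem_normalizer (c.norm (g.le he)) hd)
  exact mem_C1.mpr (h.chain c.two (g.ea.2 e he) k (mem_C1.mpr (hZB ⟨k, hc d hd⟩ e he).symm)).symm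

end Cfsg.Agent.CTT.KMc
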