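import Cfsg.Agent.CTT.K3

/-! Klinger–Mason, part 4: three commuting quaternion groups, and the final contradiction. -/

set_option autoImplicit false

namespace Cfsg.Agent.CTT.KMc
open Subgroup Cfsg H59 S1874
open scoped commutatorElement

variable {G : Type*} [Group G] [Finite G] {p N : ℕ} [hp : Fact p.Prime] {z : G} {B D : Subgroup G}

theorem sup_hyp {A A' : Subgroup G} (h : A ≤ B) (h' : A' ≤ B) (hi : A.relIndex B = p)
    (hi' : A'.relIndex B = p) (hne : A ≠ A') : B ≤ A' ⊔ A := by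
  have h1 := relIndex_mul_relIndex A' (A' ⊔ A) B le_sup_left (sup_le h' h)
  rw [hi'] at h1
  rcases (Nat.dvd_prime hp.out).mp (Dvd.intro_left _ h1) with h2 | h2
  · exact relIndex_eq_one.mp h2
  · rw [h2] at h1
    have h3 := relIndex_eq_one.mp (Nat.eq_of_mul_eq_mul_right hp.out.pos (h1.trans (one_mul p).symm))
    refine absurd (H21.eq_of_le_of_card_le (le_sup_right.trans h3) (le_of_eq ?_)) hne
    have h4 := H21.card_mul_relIndex_of_le h
    rw [← H21.card_mul_relIndex_of_le h', hi, hi'] at h4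
    exact (Nat.eq_of_mul_eq_mul_right hp.out.pos h4).symm

omit [Finite G] hp in
theorem Crit.norm_inf (c : Crit z B D) (g : Good p N z B) {A : Subgroup G} (h : A ≤ B) :
    B ≤ normalizer ((D ⊓ centralizer (A : Set G) : Subgroup G) : Set G) :=
  have := g.ea.1
  H21.le_normalizer_inf (g.le.trans c.norm)
    ((H21.le_centralizer_of_le_comm le_rfl h).trans le_normalizer)

theorem Crit.comm_F (c : Crit z B D) (g : Good p N z B) {A A' : Subgroup G} (h : A ≤ B)
    (h' : A' ≤ B) (hi : A.relIndex B = p) (hi' : A'.relIndex B = p) (hne : A ≠ A') :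
    ⁅D ⊓ centralizer (A : Set G), B⁆ ≤
      centralizer ((D ⊓ centralizer (A' : Set G) : Subgroup G) : Set G) := by
  have := g.ea.1
  refine commutator_le.mpr fun x hx b hb y hy => ?_
  obtain ⟨a', ha', a, ha, rfl⟩ := (H21.mem_sup_of_le_normalizer
    (H21.le_normalizer_of_le_comm h h')).mp (sup_hyp h h' hi hi' hne hb)
  have e : ⁅x, a' * a⁆ = x⁻¹⁻¹ * (a' * x⁻¹ * a'⁻¹) := by
    rw [commutatorElement_def]
    calc _ = x * a' * (a * x⁻¹) * a⁻¹ * a'⁻¹ := by group
      _ = _ := by rw [mem_centralizer_iff.mp (inv_mem (mem_inf.mp hx).2) a ha]; group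
  rw [e]
  exact (c.toCm.conj_comm (inv_mem hx.1) hy.1 (H21.conj_mem_of_mem_normalizer
    (c.norm (g.le (h' ha'))) (inv_mem hx.1)) (hy.2 a' ha')).symm

theorem Crit.exists_Q8 (c : Crit z B D) (h : Hyp p N G) (g : Good p N z B) {A : Subgroup G}
    (hA : A ≤ B) (hn : ¬ D ⊓ centralizer (A : Set G) ≤ centralizer (B : Set G)) :
    ∃ u ∈ ⁅D ⊓ centralizer (A : Set G), B⁆, ∃ u' ∈ ⁅D ⊓ centralizer (A : Set G), B⁆,
      u ^ 2 = z ∧ u' ^ 2 = z ∧ u * u' ≠ u' * u := by
  have hXn := c.norm_inf g hA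
  have hFX := H21.commutator_le_of_le_normalizer hXn
  have hFn := H21.le_normalizer_commutator hXn (le_normalizer (H := B))
  have hF : ¬ ⁅D ⊓ centralizer (A : Set G), B⁆ ≤ centralizer (B : Set G) := fun k =>
    hn fun x hx b hb => by
      have e : x⁻¹ * (b * x * b⁻¹) = ⁅x⁻¹, b⁆ := by rw [commutatorElement_def]; group
      have k1 := commutator_mem_commutator (inv_mem hx) hb
      exact h.chain c.two (g.ea.2 b hb) (e ▸ (hFX k1).1) (e ▸ mem_C1.mpr (k k1 b hb).symm)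
  set F := ⁅D ⊓ centralizer (A : Set G), B⁆
  have hFD : F ≤ D := hFX.trans inf_le_left
  have hzB : z ∈ centralizer (B : Set G) := le_C1.mp g.le
  by_contra! hc
  have h1 : ∀ u ∈ F, u ^ 2 = z → u ∈ centralizer (B : Set G) := by
    set Y := closure {u | u ∈ F ∧ u ^ 2 = z}
    have hYF : Y ≤ F := (closure_le _).mpr fun _ hu => hu.1
    have hYn : B ≤ normalizer (Y : Set G) := le_normalizer_closure_iff.mpr fun b hb u hu =>
      subset_closure ⟨H21.conj_mem_of_mem_normalizer (hFn hb) hu.1, by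
        rw [conj_pow, hu.2, hzB b hb, mul_inv_cancel_right]⟩
    intro u hu hu2
    refine g.abel h (X := H69.zOf Y) (c.two.to_le (inf_le_left.trans (hYF.trans hFD)))
      (inf_le_left.trans (hYF.trans (hFD.trans c.le)))
      (hYn.trans (H69.normalizer_le_normalizer_zOf Y)) ⟨subset_closure ⟨hu, hu2⟩, ?_⟩
    rw [centralizer_closure]
    exact fun v hv => hc v hv.1 u hu hv.2 hu2
  by_cases h2 : ∃ u ∈ F, u ^ 2 = z
  · obtain ⟨u, hu, hu2⟩ := h2
    have huB := h1 u hu hu2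
    have h3 : ∀ x ∈ F, x * u = u * x → x ∈ centralizer (B : Set G) := fun x hx e => by
      rcases c.sq2 x (hFD hx) with k | k
      · have := h1 _ (mul_mem hx hu) (by rw [Commute.mul_pow e, k, hu2, one_mul])
        exact (mul_mem_cancel_right huB).mp this
      · exact h1 x hx k
    refine hF fun x hx b hb => ?_
    have k1 := H21.conj_mem_of_mem_normalizer (hFn hb) hx
    have k2 := mul_mem (inv_mem hx) k1
    exact h.chain c.two (g.ea.2 b hb) (hFD k2) (mem_C1.mpr (h3 _ k2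
      (c.toCm.conj_comm (hFD hx) (hFD hu) (hFD k1) (huB b hb)) b hb).symm)
  · have h3 : ∀ u ∈ F, u ^ 2 = 1 := fun u hu =>
      (c.sq2 u (hFD hu)).resolve_right fun k => h2 ⟨u, hu, k⟩
    have h4 : IsElementaryAbelian 2 F := H69.isElementaryAbelian_iff.mpr ⟨fun a ha b hb => by
      have k : ∀ u ∈ F, u⁻¹ = u := fun u hu =>
        inv_eq_of_mul_eq_one_right (by rw [← pow_two, h3 u hu])
      rw [← k _ (mul_mem ha hb), mul_inv_rev, k a ha, k b hb], h3⟩
    refine hF fun x hx => ?_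
    rcases g.elem h h4 (hFD.trans c.le) hFn x hx with rfl | rfl
    exacts [one_mem _, hzB]

omit hp in
theorem card_inf_hyp {A A' : Subgroup G} (h : A ≤ B) (hi : A.relIndex B = p)
    (hi' : A'.relIndex B = p) : Nat.card B ≤ p ^ 2 * Nat.card ↥(A ⊓ A') := by
  rw [← H21.card_mul_relIndex_of_le (inf_le_left.trans h : A ⊓ A' ≤ B), mul_comm, pow_two]
  exact Nat.mul_le_mul_right _ (relIndex_inf_le.trans (by rw [hi, hi']))

theorem Crit.exists_hyp (c : Crit z B D) (h : Hyp p N G) (g : Good p N z B) {A A' : Subgroup G}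
    (hA : A ≤ B) (hi : A.relIndex B = p) (hi' : A'.relIndex B = p) :
    ∃ A'' ≤ B, A''.relIndex B = p ∧ A'' ≠ A ∧ A'' ≠ A' ∧
      ¬ D ⊓ centralizer (A'' : Set G) ≤ centralizer (B : Set G) := by
  by_contra! hc
  have h1 : D ≤ centralizer ((A ⊓ A' : Subgroup G) : Set G) := by
    refine H46.le_of_forall_hyperplane g.ea (g.ne_bot h) (not_dvd_of_two h.p2 c.two)
      (g.le.trans c.norm) fun C hC hCi => ?_
    by_cases e : C = A
    · exact inf_le_right.trans (H21.centralizer_anti (e ▸ inf_le_left))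
    by_cases e' : C = A'
    · exact inf_le_right.trans (H21.centralizer_anti (e' ▸ inf_le_right))
    exact (hc C hC hCi e e').trans (H21.centralizer_anti (inf_le_left.trans hA))
  refine h.ne_bot (g.card.trans (card_inf_hyp hA hi hi')) (eq_bot_iff.mpr fun e he => ?_)
  exact c.faith e (hA he.1) (le_C1.mpr (le_centralizer_iff.mp h1 he))

/-- The two good involutions cannot coexist. -/
theorem Crit.clash (c : Crit z B D) (h : Hyp p N G) (g : Good p N z B) {t : G} {B' D' : Subgroup G}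
    (c' : Crit t B' D') (g' : Good p N t B') (ht : t ∈ D) {e : G} (he : e ∈ B')
    (heo : orderOf e = p) (hze : z * e * z⁻¹ = e⁻¹) {a a' b b' : G} (ha : a ∈ D ⊓ C1 t)
    (ha' : a' ∈ D ⊓ C1 t) (hb : b ∈ D ⊓ C1 t) (hb' : b' ∈ D ⊓ C1 t) (h1 : a * a' ≠ a' * a)
    (h2 : b * b' ≠ b' * b) (c1 : a * b = b * a) (c2 : a * b' = b' * a) (c3 : a' * b = b * a')
    (c4 : a' * b' = b' * a') : False := by
  have hzt : z ∈ C1 t := mem_C1_comm.mp (c.le ht)
  have hee : e * e ≠ 1 := fun k => h.p2 ((Nat.prime_dvd_prime_iff_eq hp.out Nat.prime_two).mp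
    (heo ▸ orderOf_dvd_of_pow_eq_one (by rw [pow_two, k])))
  have hzD : z ∉ D' := fun hz => by
    have k := mul_mem (H21.conj_mem_of_mem_normalizer (c'.norm (g'.le he)) hz) (inv_mem hz)
    have e1 : e * z * e⁻¹ * z⁻¹ = e * e := by
      rw [mul_assoc e, mul_assoc e, ← conj_inv, hze, inv_inv]
    rw [e1] at k
    obtain ⟨m, hm⟩ := c'.two ⟨_, k⟩
    refine hee (orderOf_eq_one_iff.mp (Nat.eq_one_of_dvd_coprimes
      (((Nat.coprime_primes hp.out Nat.prime_two).mpr h.p2).pow_right m)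
      (orderOf_dvd_of_pow_eq_one ?_) (orderOf_dvd_of_pow_eq_one (congrArg Subtype.val hm))))
    rw [← pow_two, ← pow_mul, mul_comm, pow_mul, g'.ea.2 e he, one_pow]
  have hZ : ∀ y ∈ D, y ∈ D' → y ∈ centralizer (D : Set G) → y = 1 := fun y hy hy' hc => by
    rcases c.sq2 y hy with k | k
    · exact (c.cen h g hy hc k).resolve_right fun k => hzD (k ▸ hy')
    · exact absurd (k ▸ pow_mem hy' 2) hzD
  have hY : ∀ y ∈ D, y ∈ D' → y ∈ centralizer (D' : Set G) := fun y hy hy' => by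
    have k1 : ∀ d ∈ D, fz d t = 0 → fz d y = 0 := fun d hd k => by
      rw [fz_eq_zero] at k ⊢
      refine (c.comm d hd y hy).resolve_right fun k2 => hzD ?_
      rw [show z = d * y * d⁻¹ * y⁻¹ by rw [k2]; group]
      exact mul_mem (H21.conj_mem_of_mem_normalizer (c'.norm (mem_C1.mpr k)) hy') (inv_mem hy')
    by_cases k2 : ∀ d ∈ D, fz d y = 0
    · rw [hZ y hy hy' fun d hd => fz_eq_zero.mp (k2 d hd)]; exact one_mem _
    push Not at k2
    obtain ⟨d₀, hd₀, k2⟩ := k2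
    have k3 := hZ (y * t) (mul_mem hy ht) (mul_mem hy' c'.mem) fun d hd => by
      have m1 := k1 d hd
      have m2 := k1 d₀ hd₀
      have m3 := k1 _ (mul_mem hd hd₀)
      rw [c.toCm.fm hd hd₀ ht, c.toCm.fm hd hd₀ hy] at m3
      rw [← fz_eq_zero, c.toCm.fm' hy ht hd]
      revert m1 m2 m3 k2
      generalize fz d t = x1, fz d y = x2, fz d₀ t = x3, fz d₀ y = x4
      revert x1 x2 x3 x4
      decide
    rw [eq_inv_of_mul_eq_one_left k3]
    exact inv_mem (le_C1.mp c'.le)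
  have hRn : D ⊓ C1 t ≤ normalizer (D' : Set G) := inf_le_right.trans c'.norm
  let ρ : ↥(D ⊓ C1 t) →* MulAut D' := D'.normalizerMonoidHom.comp (inclusion hRn)
  have hρ : ∀ r v, ((ρ r v : D') : G) = r * v * (r : G)⁻¹ := fun _ _ => rfl
  let ζ : ↥(D ⊓ C1 t) := ⟨z, c.mem, hzt⟩
  have fix0 : ∀ u : D', z * u = u * z → ∀ r (w : D'), fz (ρ r u : G) w = fz (u : G) w := by
    intro u hu r w
    have k1 : (u : G)⁻¹ * (ρ r u : G) ∈ D := by
      rw [hρ, show (u : G)⁻¹ * (r * u * (r : G)⁻¹) = (u : G)⁻¹ * r * u * (r : G)⁻¹ by group]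
      exact mul_mem (H21.conj_mem_of_mem_normalizer' (c.norm (mem_C1.mpr hu.symm)) r.2.1)
        (inv_mem r.2.1)
    have k2 := fz_eq_zero.mpr (hY _ k1 (mul_mem (inv_mem u.2) (ρ r u).2) w w.2).symm
    rw [c'.toCm.fm (inv_mem u.2) (ρ r u).2 w.2, c'.toCm.finv u.2 w.2] at k2
    revert k2
    generalize fz (ρ r u : G) w = x1, fz (u : G) w = x2
    revert x1 x2
    decide
  have cz : ∀ u : D', (∀ w : D', fz (ρ ζ u : G) w = fz (u : G) w) →
      (u : G)⁻¹ * (z * u * z⁻¹) ∈ centralizer (D' : Set G) := fun u hu w hw => by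
    rw [eq_comm, ← fz_eq_zero, ← hρ ζ u, c'.toCm.fm (inv_mem u.2) (ρ ζ u).2 hw, c'.toCm.finv u.2 hw,
      hu ⟨w, hw⟩, CharTwo.add_self_eq_zero]
  have alt : ∀ u : D', (∀ w : D', fz (ρ ζ u : G) w = fz (u : G) w) →
      z * u = u * z ∨ z * u * z⁻¹ = u * t := fun u hu => by
    have k1 := cz u hu
    have k2 : (z * u * z⁻¹) ^ 2 = (u : G) ^ 2 := by
      rw [conj_pow]
      rcases c'.sq2 u u.2 with k | k <;> rw [k]
      · group
      · rw [mem_C1.mp hzt, mul_inv_cancel_right]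
    have k3 : ((u : G)⁻¹ * (z * u * z⁻¹)) ^ 2 = 1 := by
      have k4 : Commute (u : G)⁻¹ (z * u * z⁻¹) := by
        have := k1 u u.2
        rw [mul_inv_cancel_left] at this
        rw [Commute, SemiconjBy, eq_mul_inv_iff_mul_eq, ← this]
      rw [k4.mul_pow, k2, inv_pow, inv_mul_cancel]
    rcases c'.cen h g' (mul_mem (inv_mem u.2) (ρ ζ u).2) k1 k3 with k | k
    · left; rwa [inv_mul_eq_one, hρ, eq_mul_inv_iff_mul_eq, eq_comm] at k
    · right; rwa [inv_mul_eq_iff_eq_mul] at k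
  have key := KM69.lin ρ (fun x y => fz (x : G) y) (fun x y w => c'.toCm.fm x.2 y.2 w.2)
    (fun x y => fz_symm _ _) (fun x => fz_self _) (fun r x y => fz_conj _ _ _) (z := ζ)
    (fun r => Subtype.ext (mem_C1.mp (c.le r.2.1)).symm) (Subtype.ext c.sq)
    (fun u u' hu hu' => by
      rcases alt u hu with k | k
      · exact Or.inl (fix0 u k)
      rcases alt u' hu' with k' | k'
      · exact Or.inr (Or.inl (fix0 u' k'))
      refine Or.inr (Or.inr (fix0 (u * u') ?_))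
      rw [← mul_inv_eq_iff_eq_mul, coe_mul, ← conj_mul, k, k', mul_assoc, ← mul_assoc t,
        ← mem_C1.mp (c'.le u'.2), mul_assoc, c'.sq, mul_one])
    (a := ⟨a, ha⟩) (a' := ⟨a', ha'⟩) (b := ⟨b, hb⟩) (b' := ⟨b', hb'⟩)
    (Subtype.ext (c.toCm.of_ne ha.1 ha'.1 h1)) (Subtype.ext (c.toCm.of_ne hb.1 hb'.1 h2))
    (Subtype.ext c1) (Subtype.ext c2) (Subtype.ext c3) (Subtype.ext c4)
  have hen := c'.norm (g'.le he)
  refine hee (c'.faith' h g' (mul_mem he he) fun d hd w hw => ?_)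
  have k1 : ∀ v ∈ D', ∀ w ∈ D', fz (z * v * z⁻¹) w = fz v w :=
    fun v hv w hw => key ⟨v, hv⟩ ⟨w, hw⟩
  have hd1 := H21.conj_mem_of_mem_normalizer hen hd
  have hzn := c'.norm hzt
  rw [eq_comm, ← fz_eq_zero, c'.toCm.fm (inv_mem hd)
    (H21.conj_mem_of_mem_normalizer (mul_mem hen hen) hd) hw, c'.toCm.finv hd hw]
  have k2 : fz (e * e * d * (e * e)⁻¹) w = fz d w := by
    have hw1 := H21.conj_mem_of_mem_normalizer' hen hw
    have e1 : e * e * d * (e * e)⁻¹ = e * (e * d * e⁻¹) * e⁻¹ := by group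
    have e2 : w = e * (e⁻¹ * w * e) * e⁻¹ := by group
    have e3 : z * (e * d * e⁻¹) * z⁻¹ = e⁻¹ * (z * d * z⁻¹) * e⁻¹⁻¹ := by
      rw [← conj_mul, ← conj_mul, ← conj_inv, hze]
    calc _ = fz (e * d * e⁻¹) (e⁻¹ * w * e) := by rw [e1]; nth_rewrite 1 [e2]; exact fz_conj _ _ _
      _ = fz (e⁻¹ * (z * d * z⁻¹) * e⁻¹⁻¹) (e⁻¹ * w * e⁻¹⁻¹) := by
          rw [← k1 _ hd1 _ hw1, e3, inv_inv]
      _ = fz d w := by rw [fz_conj, k1 d hd w hw]
  rw [k2, CharTwo.add_self_eq_zero]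

end Cfsg.Agent.CTT.KMc
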