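import Cfsg.Agent.CTT.K4

/-! Klinger–Mason, part 5: the final contradiction. -/

set_option autoImplicit false

namespace Cfsg.Agent.CTT.KMc

open Subgroup Cfsg H59

variable {G : Type*} [Group G] [Finite G] {p N : ℕ} [hp : Fact p.Prime]

omit [Finite G] hp in
theorem mem_zp {x y : G} (hx : x ^ 2 = 1) (hy : y ∈ zpowers x) : y = 1 ∨ y = x := by
  obtain ⟨k, rfl⟩ := hy
  have h2 : x ^ (2 : ℤ) = 1 := by exact_mod_cast hx
  rcases Int.even_or_odd' k with ⟨m, rfl | rfl⟩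
  · left; simp only; rw [zpow_mul, h2, one_zpow]
  · right; simp only; rw [zpow_add, zpow_mul, h2, one_zpow, one_mul, zpow_one]

omit hp in
theorem dbl {X : Subgroup G} (hX : IsElementaryAbelian 2 X) {a : G} (ha : a ^ 2 = 1)
    (hc : a ∈ centralizer (X : Set G)) (hn : a ∉ X) : IsElementaryAbelian 2 (X ⊔ zpowers a) ∧
    2 * Nat.card X ≤ Nat.card ↥(X ⊔ zpowers a) ∧ ∀ y ∈ X ⊔ zpowers a, y ∈ X ∨ y * a ∈ X := by
  have h1 : zpowers a ≤ centralizer (X : Set G) := zpowers_le.mpr hc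
  have h2 := H21.isElementaryAbelian_zpowers ha
  refine ⟨H21.isElementaryAbelian_sup hX h2 (le_centralizer_iff.mp h1), (Nat.mul_le_mul_right _
    (le_relIndex_of_not_le (H21.IsElementaryAbelian.isPGroup h2) fun h => hn (zpowers_le.mp h))).trans
    (mul_card_le_card_sup h1 le_rfl), fun y hy => ?_⟩
  obtain ⟨x, hx, w, hw, rfl⟩ :=
    (H21.mem_sup_of_le_normalizer (h1.trans (centralizer_le_normalizer _))).mp hy
  rcases mem_zp ha hw with rfl | rfl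
  · left; rwa [mul_one]
  · right; rwa [mul_assoc, ← pow_two, ha, mul_one]

theorem contra (h : Hyp p N G) {z : G} {B : Subgroup G} (g : Good p N z B) : False := by
  obtain ⟨D, c⟩ := g.exists_crit h
  obtain ⟨A₀, hA₀, hi₀⟩ :=
    H46.exists_relIndex_eq_prime (H21.IsElementaryAbelian.isPGroup g.ea) (g.ne_bot h)
  obtain ⟨A₁, hA₁, hi₁, -, -, n₁⟩ := c.exists_hyp h g hA₀ hi₀ hi₀
  obtain ⟨A₂, hA₂, hi₂, e21, -, n₂⟩ := c.exists_hyp h g hA₁ hi₁ hi₁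
  obtain ⟨A₃, hA₃, hi₃, e31, e32, n₃⟩ := c.exists_hyp h g hA₁ hi₁ hi₂
  obtain ⟨u₁, hu₁, v₁, hv₁, -, -, q₁⟩ := c.exists_Q8 h g hA₁ n₁
  obtain ⟨u₂, hu₂, v₂, hv₂, su₂, sv₂, q₂⟩ := c.exists_Q8 h g hA₂ n₂
  obtain ⟨u₃, hu₃, v₃, hv₃, su₃, sv₃, q₃⟩ := c.exists_Q8 h g hA₃ n₃
  have F₁ := H21.commutator_le_of_le_normalizer (c.norm_inf g hA₁)
  have F₂ := H21.commutator_le_of_le_normalizer (c.norm_inf g hA₂)
  have F₃ := H21.commutator_le_of_le_normalizer (c.norm_inf g hA₃)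
  have C21 := c.comm_F g hA₂ hA₁ hi₂ hi₁ e21
  have C31 := c.comm_F g hA₃ hA₁ hi₃ hi₁ e31
  have C32 := c.comm_F g hA₃ hA₂ hi₃ hi₂ e32
  have du₂ := (F₂ hu₂).1
  have dv₂ := (F₂ hv₂).1
  have du₃ := (F₃ hu₃).1
  have dv₃ := (F₃ hv₃).1
  have f1 := fz_eq_zero.mpr (C32 hu₃ _ (F₂ hu₂))
  have f2 := fz_eq_zero.mpr (C32 hv₃ _ (F₂ hu₂))
  have f3 := fz_eq_zero.mpr (C32 hu₃ _ (F₂ hv₂))
  have f4 := fz_eq_zero.mpr (C32 hv₃ _ (F₂ hv₂))
  have f5 := fz_eq_one q₂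
  have f6 := fz_eq_one q₃
  have da := mul_mem du₂ du₃
  have db := mul_mem dv₂ dv₃
  have sa : (u₂ * u₃) ^ 2 = 1 := by rw [Commute.mul_pow (fz_eq_zero.mp f1), su₂, su₃, c.sq]
  have sb : (v₂ * v₃) ^ 2 = 1 := by rw [Commute.mul_pow (fz_eq_zero.mp f4), sv₂, sv₃, c.sq]
  have ua : fz u₂ (u₂ * u₃) = 0 := by rw [c.toCm.fm' du₂ du₃ du₂, fz_self, f1, add_zero]
  have ub : fz u₂ (v₂ * v₃) = 1 := by rw [c.toCm.fm' dv₂ dv₃ du₂, f5, f2, add_zero]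
  have va : fz v₂ (u₂ * u₃) = 1 := by rw [c.toCm.fm' du₂ du₃ dv₂, fz_symm, f5, f3, add_zero]
  have vb : fz v₂ (v₂ * v₃) = 0 := by rw [c.toCm.fm' dv₂ dv₃ dv₂, fz_self, f4, add_zero]
  have ab : fz (u₂ * u₃) (v₂ * v₃) = 0 := by
    rw [c.toCm.fm du₂ du₃ db, ub, c.toCm.fm' dv₂ dv₃ du₃, f6, fz_symm, f3]; decide
  have zf : ∀ y ∈ zpowers z, ∀ w ∈ D, fz w y = 0 := fun y hy w hw => by
    rcases g.mem_zpowers hy with rfl | rfl
    exacts [fz_eq_zero.mpr (by simp), by rw [fz_symm]; exact c.toCm.fzz hw]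
  have hZD : zpowers z ≤ D := zpowers_le.mpr c.mem
  set a := u₂ * u₃
  set b := v₂ * v₃
  obtain ⟨w1, w2, w3⟩ := dbl (H21.isElementaryAbelian_zpowers g.sq) sa
    (by rw [H44.centralizer_zpowers_eq]; exact c.le da)
    (fun k => by rw [zf _ k _ dv₂] at va; exact absurd va (by decide))
  have hXD : zpowers z ⊔ zpowers a ≤ D := sup_le hZD (zpowers_le.mpr da)
  have xf : ∀ y ∈ zpowers z ⊔ zpowers a, ∀ w ∈ D, fz w a = 0 → fz w y = 0 := fun y hy w hw k => by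
    rcases w3 y hy with k1 | k1
    · exact zf _ k1 w hw
    · have := zf _ k1 w hw
      rwa [c.toCm.fm' (hXD hy) da hw, k, add_zero] at this
  obtain ⟨w4, w5, w6⟩ := dbl w1 sb
    (fun y hy => (fz_eq_zero.mp (xf y hy b db (by rw [fz_symm, ab]))).symm)
    (fun k => by rw [xf _ k _ du₂ ua] at ub; exact absurd ub (by decide))
  have hWD : (zpowers z ⊔ zpowers a) ⊔ zpowers b ≤ D := sup_le hXD (zpowers_le.mpr db)
  have cA : ∀ x ∈ ⁅D ⊓ centralizer (A₂ : Set G), B⁆, ∀ y ∈ ⁅D ⊓ centralizer (A₃ : Set G), B⁆,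
      x * y ∈ centralizer ((A₂ ⊓ A₃ : Subgroup G) : Set G) := fun x hx y hy =>
    mul_mem (H21.centralizer_anti inf_le_left (F₂ hx).2) (H21.centralizer_anti inf_le_right (F₃ hy).2)
  obtain ⟨t, ht, B', g', e, he, heo, hze⟩ := h.exists_good
    (H21.isElementaryAbelian_of_le g.ea (inf_le_left.trans hA₂))
    (g.card.trans (card_inf_hyp hA₂ hi₂ hi₃)) w4
    (by rw [Nat.card_zpowers, g.ord] at w2; omega)
    (sup_le (sup_le (zpowers_le.mpr (H21.centralizer_anti (inf_le_left.trans hA₂) (le_C1.mp g.le)))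
      (zpowers_le.mpr (cA _ hu₂ _ hu₃))) (zpowers_le.mpr (cA _ hv₂ _ hv₃)))
    (mem_sup_left (mem_sup_left (mem_zpowers z))) g.ne_one
  obtain ⟨D', c'⟩ := g'.exists_crit h
  have htD := hWD ht
  have := w4.1
  have hat : a ∈ C1 t := mem_C1.mpr (H21.mul_comm_of_mem
    (mem_sup_left (mem_sup_right (mem_zpowers a))) ht)
  have hbt : b ∈ C1 t := mem_C1.mpr (H21.mul_comm_of_mem (mem_sup_right (mem_zpowers b)) ht)
  let K := centralizer ((D ⊓ centralizer (A₁ : Set G) : Subgroup G) : Set G)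
  have ka : a ∈ K := mul_mem (C21 hu₂) (C31 hu₃)
  have kb : b ∈ K := mul_mem (C21 hv₂) (C31 hv₃)
  have kt : t ∈ K := sup_le (sup_le (zpowers_le.mpr (H21.centralizer_anti inf_le_left
    (le_C1.mp c.le))) (zpowers_le.mpr ka)) (zpowers_le.mpr kb) ht
  have fin : ∀ r ∈ ⁅D ⊓ centralizer (A₂ : Set G), B⁆, ∀ s ∈ K, s ∈ D ⊓ C1 t → fz r t = 0 →
      fz r s = 1 → False := fun r hr s hs hst k1 k2 =>
    c.clash h g c' g' htD he heo hze ⟨(F₁ hu₁).1, mem_C1.mpr (kt _ (F₁ hu₁))⟩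
      ⟨(F₁ hv₁).1, mem_C1.mpr (kt _ (F₁ hv₁))⟩ ⟨(F₂ hr).1, mem_C1.mpr (fz_eq_zero.mp k1)⟩ hst q₁
      (fun k => by rw [fz_eq_zero.mpr k] at k2; exact absurd k2 (by decide))
      (C21 hr _ (F₁ hu₁)) (hs _ (F₁ hu₁)) (C21 hr _ (F₁ hv₁)) (hs _ (F₁ hv₁))
  rcases w6 t ht with k | k
  · exact fin u₂ hu₂ b kb ⟨db, hbt⟩ (xf t k _ du₂ ua) ub
  rcases w3 _ k with k1 | k1
  · have k2 := zf _ k1 _ dv₂
    rw [c.toCm.fm' htD db dv₂, vb, add_zero] at k2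
    exact fin v₂ hv₂ a ka ⟨da, hat⟩ k2 va
  · have duv := mul_mem du₂ dv₂
    have k2 := zf _ k1 _ duv
    rw [c.toCm.fm' (mul_mem htD db) da duv, c.toCm.fm' htD db duv, c.toCm.fm du₂ dv₂ db,
      c.toCm.fm du₂ dv₂ da, ua, ub, va, vb, add_zero, zero_add, add_assoc,
      CharTwo.add_self_eq_zero, add_zero] at k2
    exact fin _ (mul_mem hu₂ hv₂) a ka ⟨da, hat⟩ k2
      (by rw [c.toCm.fm du₂ dv₂ da, ua, va, zero_add])


/-- the bound on the `p`-rank of centralizers of involutions -/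
theorem max_sq (hp2 : p ≠ 2) (locp : Gr p G)
    (loc2 : ∀ T : Subgroup G, IsPGroup 2 T → T ≠ ⊥ → H69.CharPOf 2 (normalizer (T : Set G)))
    {w : G} {B : Subgroup G} (h4 : orderOf w = 2) (h5 : IsElementaryAbelian p B) (h6 : B ≤ C1 w) :
    Nat.card B ≤ p ^ 2 := by
  have hpp : p.Prime := Fact.out
  by_contra! hc
  have h3 : p ^ 3 ≤ Nat.card B := by
    obtain ⟨k, hk⟩ := IsPGroup.iff_card.mp (H21.IsElementaryAbelian.isPGroup h5)
    rw [hk] at hc ⊢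
    exact Nat.pow_le_pow_right hpp.pos ((Nat.pow_lt_pow_iff_right hpp.one_lt).mp hc)
  obtain ⟨⟨z, B₀⟩, ⟨k1, k2, k3⟩, hmax⟩ := Set.exists_max_image
    {x : G × Subgroup G | orderOf x.1 = 2 ∧ IsElementaryAbelian p x.2 ∧ x.2 ≤ C1 x.1}
    (fun x => Nat.card x.2) (Set.toFinite _) ⟨(w, B), h4, h5, h6⟩
  exact contra (p := p) (N := Nat.card B₀) ⟨hp2, locp, loc2,
    fun w B h1 h2 h3 => hmax (w, B) ⟨h1, h2, h3⟩,
    h3.trans (hmax (w, B) ⟨h4, h5, h6⟩)⟩ ⟨k1, k2, k3, le_rfl⟩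

end Cfsg.Agent.CTT.KMc
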